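/-
Certificate data of a coset enumeration.
-/
import Cfsg.Agent.Lib.CosetEnum.ONK.Data

set_option autoImplicit false
set_option maxRecDepth 1000000

namespace CfsgLib.CosetEnum.ONK

open CfsgLib.CosetEnum

/-- Completion of the rows from 0. -/
noncomputable def rows0 : List (List ℕ) := [[(nat_lit 0x1), (nat_lit 0x1001), (nat_lit 0x2001), (nat_lit 0x3001)], [(nat_lit 0x1), (nat_lit 0x4001), (nat_lit 0x5001), (nat_lit 0x7001)], [(nat_lit 0x9001), (nat_lit 0x1001), (nat_lit 0xa001), (nat_lit 0xb001)], [(nat_lit 0x6001), (nat_lit 0xd001), (nat_lit 0x2001), (nat_lit 0xe001)], [(nat_lit 0x8001), (nat_lit 0xc001), (nat_lit 0xf001), (nat_lit 0x3001)], [(nat_lit 0x10001), (nat_lit 0x4001), (nat_lit 0x12001), (nat_lit 0x13001)], [(nat_lit 0x6001), (nat_lit 0x15001), (nat_lit 0x5001), (nat_lit 0x16001)], [(nat_lit 0x8001), (nat_lit 0x14001), (nat_lit 0x18001), (nat_lit 0x7001)], [(nat_lit 0x9001), (nat_lit 0x11001),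 (nat_lit 0x1a001), (nat_lit 0x1c001)], [(nat_lit 0x1b001), (nat_lit 0x1e001), (nat_lit 0xa001), (nat_lit 0x20001)], [(nat_lit 0x1d001), (nat_lit 0xc001), (nat_lit 0x21001), (nat_lit 0xb001)], [(nat_lit 0x22001), (nat_lit 0xd001), (nat_lit 0x1f001), (nat_lit 0x23001)], [(nat_lit 0x17001), (nat_lit 0x24001), (nat_lit 0x25001), (nat_lit 0xe001)], [(nat_lit 0x19001), (nat_lit 0x26001), (nat_lit 0xf001), (nat_lit 0x27001)], [(nat_lit 0x10001), (nat_lit 0x11001), (nat_lit 0x28001), (nat_lit 0x2a001)], [(nat_lit 0x29001), (nat_lit 0x2d001), (nat_lit 0x12001), (nat_lit 0x2f001)], [(nat_lit 0x2b001), (nat_lit 0x14001), (nat_lit 0x30001), (nat_lit 0x13001)], [(nat_lit 0x31001), (nat_lit 0x15001), (nat_lit 0x2e001), (nat_lit 0x33001)], [(nat_lit 0x17001), (nat_lit 0x34001), (nat_lit 0x35001), (nat_lit 0x16001)], [(nat_lit 0x19001), (nat_lit 0x37001), (nat_lit 0x18001), (nat_lit 0x38001)], [(nat_lit 0x1b001), (nat_lit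 0x3a001), (nat_lit 0x1a001), (nat_lit 0x3b001)], [(nat_lit 0x1d001), (nat_lit 0x2c001), (nat_lit 0x3d001), (nat_lit 0x1c001)], [(nat_lit 0x3f001), (nat_lit 0x1e001), (nat_lit 0x1f001), (nat_lit 0x41001)], [(nat_lit 0x3c001), (nat_lit 0x42001), (nat_lit 0x43001), (nat_lit 0x20001)], [(nat_lit 0x3e001), (nat_lit 0x44001), (nat_lit 0x21001), (nat_lit 0x46001)], [(nat_lit 0x22001), (nat_lit 0x32001), (nat_lit 0x40001), (nat_lit 0x47001)], [(nat_lit 0x48001), (nat_lit 0x24001), (nat_lit 0x49001), (nat_lit 0x23001)], [(nat_lit 0x36001), (nat_lit 0x4a001), (nat_lit 0x25001), (nat_lit 0x4b001)], [(nat_lit 0x4c001), (nat_lit 0x26001), (nat_lit 0x45001), (nat_lit 0x4d001)], [(nat_lit 0x39001), (nat_lit 0x4e001), (nat_lit 0x4f001), (nat_lit 0x27001)], [(nat_lit 0x29001), (nat_lit 0x50001), (nat_lit 0x28001), (nat_lit 0x52001)], [(nat_lit 0x2b001), (nat_lit 0x2c001), (nat_lit 0x54001), (nat_lit 0x2a001)], [(nat_lit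 0x56001), (nat_lit 0x2d001), (nat_lit 0x2e001), (nat_lit 0x58001)], [(nat_lit 0x53001), (nat_lit 0x59001), (nat_lit 0x5a001), (nat_lit 0x2f001)], [(nat_lit 0x55001), (nat_lit 0x5b001), (nat_lit 0x30001), (nat_lit 0x5d001)], [(nat_lit 0x31001), (nat_lit 0x32001), (nat_lit 0x57001), (nat_lit 0x5e001)], [(nat_lit 0x5f001), (nat_lit 0x34001), (nat_lit 0x61001), (nat_lit 0x33001)], [(nat_lit 0x36001), (nat_lit 0x62001), (nat_lit 0x35001), (nat_lit 0x63001)], [(nat_lit 0x65001), (nat_lit 0x37001), (nat_lit 0x5c001), (nat_lit 0x67001)], [(nat_lit 0x39001), (nat_lit 0x68001), (nat_lit 0x69001), (nat_lit 0x38001)], [(nat_lit 0x6b001), (nat_lit 0x3a001), (nat_lit 0x51001), (nat_lit 0x6d001)], [(nat_lit 0x3c001), (nat_lit 0x6e001), (nat_lit 0x6f001), (nat_lit 0x3b001)], [(nat_lit 0x3e001), (nat_lit 0x71001), (nat_lit 0x3d001), (nat_lit 0x72001)], [(nat_lit 0x3f001), (nat_lit 0x6c001), (nat_lit 0x40001), (nat_lit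 0x74001)], [(nat_lit 0x75001), (nat_lit 0x42001), (nat_lit 0x76001), (nat_lit 0x41001)], [(nat_lit 0x70001), (nat_lit 0x77001), (nat_lit 0x43001), (nat_lit 0x78001)], [(nat_lit 0x79001), (nat_lit 0x44001), (nat_lit 0x45001), (nat_lit 0x7b001)], [(nat_lit 0x73001), (nat_lit 0x7c001), (nat_lit 0x7d001), (nat_lit 0x46001)], [(nat_lit 0x48001), (nat_lit 0x60001), (nat_lit 0x7e001), (nat_lit 0x47001)], [(nat_lit 0x7f001), (nat_lit 0x80001), (nat_lit 0x49001), (nat_lit 0x82001)], [(nat_lit 0x83001), (nat_lit 0x4a001), (nat_lit 0x81001), (nat_lit 0x84001)], [(nat_lit 0x64001), (nat_lit 0x85001), (nat_lit 0x86001), (nat_lit 0x4b001)], [(nat_lit 0x4c001), (nat_lit 0x66001), (nat_lit 0x7a001), (nat_lit 0x87001)], [(nat_lit 0x88001), (nat_lit 0x4e001), (nat_lit 0x89001), (nat_lit 0x4d001)], [(nat_lit 0x6a001), (nat_lit 0x8a001), (nat_lit 0x4f001), (nat_lit 0x8b001)], [(nat_lit 0x8c001), (nat_lit 0x50001), (nat_lit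 0x51001), (nat_lit 0x8f001)], [(nat_lit 0x53001), (nat_lit 0x90001), (nat_lit 0x91001), (nat_lit 0x52001)], [(nat_lit 0x55001), (nat_lit 0x93001), (nat_lit 0x54001), (nat_lit 0x95001)], [(nat_lit 0x56001), (nat_lit 0x8d001), (nat_lit 0x57001), (nat_lit 0x97001)], [(nat_lit 0x98001), (nat_lit 0x59001), (nat_lit 0x99001), (nat_lit 0x58001)], [(nat_lit 0x92001), (nat_lit 0x9a001), (nat_lit 0x5a001), (nat_lit 0x9b001)], [(nat_lit 0x9c001), (nat_lit 0x5b001), (nat_lit 0x5c001), (nat_lit 0x9e001)], [(nat_lit 0x96001), (nat_lit 0x9f001), (nat_lit 0xa0001), (nat_lit 0x5d001)], [(nat_lit 0x5f001), (nat_lit 0x60001), (nat_lit 0xa1001), (nat_lit 0x5e001)], [(nat_lit 0xa2001), (nat_lit 0xa3001), (nat_lit 0x61001), (nat_lit 0xa5001)], [(nat_lit 0xa6001), (nat_lit 0x62001), (nat_lit 0xa4001), (nat_lit 0xa8001)], [(nat_lit 0x64001), (nat_lit 0xa9001), (nat_lit 0xaa001), (nat_lit 0x63001)], [(nat_lit 0x65001), (nat_lit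 0x66001), (nat_lit 0x9d001), (nat_lit 0xac001)], [(nat_lit 0xad001), (nat_lit 0x68001), (nat_lit 0xaf001), (nat_lit 0x67001)], [(nat_lit 0x6a001), (nat_lit 0xb0001), (nat_lit 0x69001), (nat_lit 0xb1001)], [(nat_lit 0x6b001), (nat_lit 0x6c001), (nat_lit 0x8e001), (nat_lit 0xb3001)], [(nat_lit 0xb4001), (nat_lit 0x6e001), (nat_lit 0xb6001), (nat_lit 0x6d001)], [(nat_lit 0x70001), (nat_lit 0xb7001), (nat_lit 0x6f001), (nat_lit 0xb8001)], [(nat_lit 0xba001), (nat_lit 0x71001), (nat_lit 0x94001), (nat_lit 0xbc001)], [(nat_lit 0x73001), (nat_lit 0xbd001), (nat_lit 0xbe001), (nat_lit 0x72001)], [(nat_lit 0x75001), (nat_lit 0xb5001), (nat_lit 0xc0001), (nat_lit 0x74001)], [(nat_lit 0xc1001), (nat_lit 0xc2001), (nat_lit 0x76001), (nat_lit 0xc4001)], [(nat_lit 0xc5001), (nat_lit 0x77001), (nat_lit 0xc3001), (nat_lit 0xc6001)], [(nat_lit 0xb9001), (nat_lit 0xc7001), (nat_lit 0xc8001), (nat_lit 0x78001)], [(nat_lit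 0x79001), (nat_lit 0xbb001), (nat_lit 0x7a001), (nat_lit 0xc9001)], [(nat_lit 0xca001), (nat_lit 0x7c001), (nat_lit 0xcb001), (nat_lit 0x7b001)], [(nat_lit 0xbf001), (nat_lit 0xcc001), (nat_lit 0x7d001), (nat_lit 0xcd001)], [(nat_lit 0x7f001), (nat_lit 0xce001), (nat_lit 0x7e001), (nat_lit 0xcf001)], [(nat_lit 0xd1001), (nat_lit 0x80001), (nat_lit 0x81001), (nat_lit 0xd3001)], [(nat_lit 0xd0001), (nat_lit 0xd4001), (nat_lit 0xd5001), (nat_lit 0x82001)], [(nat_lit 0x83001), (nat_lit 0xa7001), (nat_lit 0xd2001), (nat_lit 0xd6001)], [(nat_lit 0xd7001), (nat_lit 0x85001), (nat_lit 0xd8001), (nat_lit 0x84001)], [(nat_lit 0xab001), (nat_lit 0xd9001), (nat_lit 0x86001), (nat_lit 0xda001)], [(nat_lit 0x88001), (nat_lit 0xae001), (nat_lit 0xdb001), (nat_lit 0x87001)], [(nat_lit 0xdc001), (nat_lit 0xdd001), (nat_lit 0x89001), (nat_lit 0xdf001)], [(nat_lit 0xe0001), (nat_lit 0x8a001), (nat_lit 0xde001), (nat_lit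 0xe1001)], [(nat_lit 0xb2001), (nat_lit 0xe2001), (nat_lit 0xe3001), (nat_lit 0x8b001)], [(nat_lit 0x8c001), (nat_lit 0x8d001), (nat_lit 0x8e001), (nat_lit 0xe4001)], [(nat_lit 0xe5001), (nat_lit 0x90001), (nat_lit 0xe7001), (nat_lit 0x8f001)], [(nat_lit 0x92001), (nat_lit 0xe8001), (nat_lit 0x91001), (nat_lit 0xe9001)], [(nat_lit 0xeb001), (nat_lit 0x93001), (nat_lit 0x94001), (nat_lit 0xee001)], [(nat_lit 0x96001), (nat_lit 0xef001), (nat_lit 0xf0001), (nat_lit 0x95001)], [(nat_lit 0x98001), (nat_lit 0xe6001), (nat_lit 0xf2001), (nat_lit 0x97001)], [(nat_lit 0xf3001), (nat_lit 0xf4001), (nat_lit 0x99001), (nat_lit 0xf6001)], [(nat_lit 0xf7001), (nat_lit 0x9a001), (nat_lit 0xf5001), (nat_lit 0xf8001)], [(nat_lit 0xea001), (nat_lit 0xf9001), (nat_lit 0xfa001), (nat_lit 0x9b001)], [(nat_lit 0x9c001), (nat_lit 0xec001), (nat_lit 0x9d001), (nat_lit 0xfb001)], [(nat_lit 0xfc001), (nat_lit 0x9f001), (nat_lit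 0xfd001), (nat_lit 0x9e001)], [(nat_lit 0xf1001), (nat_lit 0xfe001), (nat_lit 0xa0001), (nat_lit 0xff001)], [(nat_lit 0xa2001), (nat_lit 0x100001), (nat_lit 0xa1001), (nat_lit 0x102001)], [(nat_lit 0x104001), (nat_lit 0xa3001), (nat_lit 0xa4001), (nat_lit 0x106001)], [(nat_lit 0x103001), (nat_lit 0x107001), (nat_lit 0x108001), (nat_lit 0xa5001)], [(nat_lit 0xa6001), (nat_lit 0xa7001), (nat_lit 0x105001), (nat_lit 0x109001)], [(nat_lit 0x10a001), (nat_lit 0xa9001), (nat_lit 0x10c001), (nat_lit 0xa8001)], [(nat_lit 0xab001), (nat_lit 0x10d001), (nat_lit 0xaa001), (nat_lit 0x10e001)], [(nat_lit 0xad001), (nat_lit 0xae001), (nat_lit 0x110001), (nat_lit 0xac001)], [(nat_lit 0x111001), (nat_lit 0x112001), (nat_lit 0xaf001), (nat_lit 0x114001)], [(nat_lit 0x115001), (nat_lit 0xb0001), (nat_lit 0x113001), (nat_lit 0x117001)], [(nat_lit 0xb2001), (nat_lit 0x118001), (nat_lit 0x119001), (nat_lit 0xb1001)], [(nat_lit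 0xb4001), (nat_lit 0xb5001), (nat_lit 0x11b001), (nat_lit 0xb3001)], [(nat_lit 0x11c001), (nat_lit 0x11d001), (nat_lit 0xb6001), (nat_lit 0x11f001)], [(nat_lit 0x120001), (nat_lit 0xb7001), (nat_lit 0x11e001), (nat_lit 0x122001)], [(nat_lit 0xb9001), (nat_lit 0x123001), (nat_lit 0x124001), (nat_lit 0xb8001)], [(nat_lit 0xba001), (nat_lit 0xbb001), (nat_lit 0xed001), (nat_lit 0x126001)], [(nat_lit 0x127001), (nat_lit 0xbd001), (nat_lit 0x129001), (nat_lit 0xbc001)], [(nat_lit 0xbf001), (nat_lit 0x12a001), (nat_lit 0xbe001), (nat_lit 0x12b001)], [(nat_lit 0xc1001), (nat_lit 0x12d001), (nat_lit 0xc0001), (nat_lit 0x12e001)], [(nat_lit 0x130001), (nat_lit 0xc2001), (nat_lit 0xc3001), (nat_lit 0x132001)], [(nat_lit 0x12f001), (nat_lit 0x133001), (nat_lit 0x134001), (nat_lit 0xc4001)], [(nat_lit 0xc5001), (nat_lit 0x121001), (nat_lit 0x131001), (nat_lit 0x135001)], [(nat_lit 0x136001), (nat_lit 0xc7001), (nat_lit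 0x137001), (nat_lit 0xc6001)], [(nat_lit 0x125001), (nat_lit 0x138001), (nat_lit 0xc8001), (nat_lit 0x139001)], [(nat_lit 0xca001), (nat_lit 0x128001), (nat_lit 0x13a001), (nat_lit 0xc9001)], [(nat_lit 0x13b001), (nat_lit 0x13c001), (nat_lit 0xcb001), (nat_lit 0x13e001)], [(nat_lit 0x13f001), (nat_lit 0xcc001), (nat_lit 0x13d001), (nat_lit 0x140001)], [(nat_lit 0x12c001), (nat_lit 0x141001), (nat_lit 0x142001), (nat_lit 0xcd001)], [(nat_lit 0x143001), (nat_lit 0xce001), (nat_lit 0x101001), (nat_lit 0x145001)], [(nat_lit 0xd0001), (nat_lit 0x146001), (nat_lit 0x147001), (nat_lit 0xcf001)], [(nat_lit 0xd1001), (nat_lit 0x144001), (nat_lit 0xd2001), (nat_lit 0x149001)], [(nat_lit 0x14a001), (nat_lit 0xd4001), (nat_lit 0x14b001), (nat_lit 0xd3001)], [(nat_lit 0x148001), (nat_lit 0x14c001), (nat_lit 0xd5001), (nat_lit 0x14d001)], [(nat_lit 0xd7001), (nat_lit 0x10b001), (nat_lit 0x14e001), (nat_lit 0xd6001)],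 [(nat_lit 0x14f001), (nat_lit 0x150001), (nat_lit 0xd8001), (nat_lit 0x152001)], [(nat_lit 0x153001), (nat_lit 0xd9001), (nat_lit 0x151001), (nat_lit 0x154001)], [(nat_lit 0x10f001), (nat_lit 0x155001), (nat_lit 0x156001), (nat_lit 0xda001)], [(nat_lit 0xdc001), (nat_lit 0x157001), (nat_lit 0xdb001), (nat_lit 0x158001)], [(nat_lit 0x15a001), (nat_lit 0xdd001), (nat_lit 0xde001), (nat_lit 0x15c001)], [(nat_lit 0x159001), (nat_lit 0x15d001), (nat_lit 0x15e001), (nat_lit 0xdf001)], [(nat_lit 0xe0001), (nat_lit 0x116001), (nat_lit 0x15b001), (nat_lit 0x15f001)], [(nat_lit 0x160001), (nat_lit 0xe2001), (nat_lit 0x161001), (nat_lit 0xe1001)], [(nat_lit 0x11a001), (nat_lit 0x162001), (nat_lit 0xe3001), (nat_lit 0x163001)], [(nat_lit 0xe5001), (nat_lit 0xe6001), (nat_lit 0x164001), (nat_lit 0xe4001)], [(nat_lit 0x165001), (nat_lit 0x166001), (nat_lit 0xe7001), (nat_lit 0x168001)], [(nat_lit 0x169001), (nat_lit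 0xe8001), (nat_lit 0x167001), (nat_lit 0x16b001)], [(nat_lit 0xea001), (nat_lit 0x16c001), (nat_lit 0x16d001), (nat_lit 0xe9001)], [(nat_lit 0xeb001), (nat_lit 0xec001), (nat_lit 0xed001), (nat_lit 0x16f001)], [(nat_lit 0x170001), (nat_lit 0xef001), (nat_lit 0x172001), (nat_lit 0xee001)], [(nat_lit 0xf1001), (nat_lit 0x173001), (nat_lit 0xf0001), (nat_lit 0x174001)], [(nat_lit 0xf3001), (nat_lit 0x176001), (nat_lit 0xf2001), (nat_lit 0x177001)], [(nat_lit 0x179001), (nat_lit 0xf4001), (nat_lit 0xf5001), (nat_lit 0x17b001)], [(nat_lit 0x178001), (nat_lit 0x17c001), (nat_lit 0x17d001), (nat_lit 0xf6001)], [(nat_lit 0xf7001), (nat_lit 0x16a001), (nat_lit 0x17a001), (nat_lit 0x17e001)], [(nat_lit 0x17f001), (nat_lit 0xf9001), (nat_lit 0x180001), (nat_lit 0xf8001)], [(nat_lit 0x16e001), (nat_lit 0x181001), (nat_lit 0xfa001), (nat_lit 0x182001)], [(nat_lit 0xfc001), (nat_lit 0x171001), (nat_lit 0x183001), (nat_lit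 0xfb001)], [(nat_lit 0x184001), (nat_lit 0x185001), (nat_lit 0xfd001), (nat_lit 0x187001)], [(nat_lit 0x188001), (nat_lit 0xfe001), (nat_lit 0x186001), (nat_lit 0x189001)], [(nat_lit 0x175001), (nat_lit 0x18a001), (nat_lit 0x18b001), (nat_lit 0xff001)], [(nat_lit 0x18c001), (nat_lit 0x100001), (nat_lit 0x101001), (nat_lit 0x18f001)], [(nat_lit 0x103001), (nat_lit 0x190001), (nat_lit 0x191001), (nat_lit 0x102001)], [(nat_lit 0x104001), (nat_lit 0x18d001), (nat_lit 0x105001), (nat_lit 0x193001)], [(nat_lit 0x194001), (nat_lit 0x107001), (nat_lit 0x195001), (nat_lit 0x106001)], [(nat_lit 0x192001), (nat_lit 0x196001), (nat_lit 0x108001), (nat_lit 0x197001)], [(nat_lit 0x10a001), (nat_lit 0x10b001), (nat_lit 0x198001), (nat_lit 0x109001)], [(nat_lit 0x199001), (nat_lit 0x19a001), (nat_lit 0x10c001), (nat_lit 0x19c001)], [(nat_lit 0x19d001), (nat_lit 0x10d001), (nat_lit 0x19b001), (nat_lit 0x19f001)], [(nat_lit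 0x10f001), (nat_lit 0x1a0001), (nat_lit 0x1a1001), (nat_lit 0x10e001)], [(nat_lit 0x111001), (nat_lit 0x1a3001), (nat_lit 0x110001), (nat_lit 0x1a5001)], [(nat_lit 0x1a7001), (nat_lit 0x112001), (nat_lit 0x113001), (nat_lit 0x1a9001)], [(nat_lit 0x1a6001), (nat_lit 0x1aa001), (nat_lit 0x1ab001), (nat_lit 0x114001)], [(nat_lit 0x115001), (nat_lit 0x116001), (nat_lit 0x1a8001), (nat_lit 0x1ac001)], [(nat_lit 0x1ad001), (nat_lit 0x118001), (nat_lit 0x1af001), (nat_lit 0x117001)], [(nat_lit 0x11a001), (nat_lit 0x1b0001), (nat_lit 0x119001), (nat_lit 0x1b1001)], [(nat_lit 0x11c001), (nat_lit 0x1b3001), (nat_lit 0x11b001), (nat_lit 0x1b5001)], [(nat_lit 0x1b7001), (nat_lit 0x11d001), (nat_lit 0x11e001), (nat_lit 0x1b9001)], [(nat_lit 0x1b6001), (nat_lit 0x1ba001), (nat_lit 0x1bb001), (nat_lit 0x11f001)], [(nat_lit 0x120001), (nat_lit 0x121001), (nat_lit 0x1b8001), (nat_lit 0x1bc001)], [(nat_lit 0x1bd001), (nat_lit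 0x123001), (nat_lit 0x1bf001), (nat_lit 0x122001)], [(nat_lit 0x125001), (nat_lit 0x1c0001), (nat_lit 0x124001), (nat_lit 0x1c1001)], [(nat_lit 0x127001), (nat_lit 0x128001), (nat_lit 0x1c3001), (nat_lit 0x126001)], [(nat_lit 0x1c4001), (nat_lit 0x1c5001), (nat_lit 0x129001), (nat_lit 0x1c7001)], [(nat_lit 0x1c8001), (nat_lit 0x12a001), (nat_lit 0x1c6001), (nat_lit 0x1ca001)], [(nat_lit 0x12c001), (nat_lit 0x1cb001), (nat_lit 0x1cc001), (nat_lit 0x12b001)], [(nat_lit 0x1ce001), (nat_lit 0x12d001), (nat_lit 0x1b4001), (nat_lit 0x1d0001)], [(nat_lit 0x12f001), (nat_lit 0x1d1001), (nat_lit 0x1d2001), (nat_lit 0x12e001)], [(nat_lit 0x130001), (nat_lit 0x1cf001), (nat_lit 0x131001), (nat_lit 0x1d4001)], [(nat_lit 0x1d5001), (nat_lit 0x133001), (nat_lit 0x1d6001), (nat_lit 0x132001)], [(nat_lit 0x1d3001), (nat_lit 0x1d7001), (nat_lit 0x134001), (nat_lit 0x1d8001)], [(nat_lit 0x136001), (nat_lit 0x1be001), (nat_lit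 0x1d9001), (nat_lit 0x135001)], [(nat_lit 0x1da001), (nat_lit 0x1db001), (nat_lit 0x137001), (nat_lit 0x1dd001)], [(nat_lit 0x1de001), (nat_lit 0x138001), (nat_lit 0x1dc001), (nat_lit 0x1df001)], [(nat_lit 0x1c2001), (nat_lit 0x1e0001), (nat_lit 0x1e1001), (nat_lit 0x139001)], [(nat_lit 0x13b001), (nat_lit 0x1e2001), (nat_lit 0x13a001), (nat_lit 0x1e3001)], [(nat_lit 0x1e5001), (nat_lit 0x13c001), (nat_lit 0x13d001), (nat_lit 0x1e7001)], [(nat_lit 0x1e4001), (nat_lit 0x1e8001), (nat_lit 0x1e9001), (nat_lit 0x13e001)], [(nat_lit 0x13f001), (nat_lit 0x1c9001), (nat_lit 0x1e6001), (nat_lit 0x1ea001)], [(nat_lit 0x1eb001), (nat_lit 0x141001), (nat_lit 0x1ec001), (nat_lit 0x140001)], [(nat_lit 0x1cd001), (nat_lit 0x1ed001), (nat_lit 0x142001), (nat_lit 0x1ee001)], [(nat_lit 0x143001), (nat_lit 0x144001), (nat_lit 0x18e001), (nat_lit 0x1ef001)], [(nat_lit 0x1f0001), (nat_lit 0x146001), (nat_lit 0x1f2001), (nat_lit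 0x145001)], [(nat_lit 0x148001), (nat_lit 0x1f3001), (nat_lit 0x147001), (nat_lit 0x1f4001)], [(nat_lit 0x14a001), (nat_lit 0x1f1001), (nat_lit 0x1f6001), (nat_lit 0x149001)], [(nat_lit 0x1f7001), (nat_lit 0x1f8001), (nat_lit 0x14b001), (nat_lit 0x1fa001)], [(nat_lit 0x1fb001), (nat_lit 0x14c001), (nat_lit 0x1f9001), (nat_lit 0x1fc001)], [(nat_lit 0x1f5001), (nat_lit 0x1fd001), (nat_lit 0x1fe001), (nat_lit 0x14d001)], [(nat_lit 0x14f001), (nat_lit 0x1ff001), (nat_lit 0x14e001), (nat_lit 0x200001)], [(nat_lit 0x202001), (nat_lit 0x150001), (nat_lit 0x151001), (nat_lit 0x204001)], [(nat_lit 0x201001), (nat_lit 0x205001), (nat_lit 0x206001), (nat_lit 0x152001)], [(nat_lit 0x153001), (nat_lit 0x19e001), (nat_lit 0x203001), (nat_lit 0x207001)], [(nat_lit 0x208001), (nat_lit 0x155001), (nat_lit 0x209001), (nat_lit 0x154001)], [(nat_lit 0x1a2001), (nat_lit 0x20a001), (nat_lit 0x156001), (nat_lit 0x20b001)],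 [(nat_lit 0x20d001), (nat_lit 0x157001), (nat_lit 0x1a4001), (nat_lit 0x20f001)], [(nat_lit 0x159001), (nat_lit 0x210001), (nat_lit 0x211001), (nat_lit 0x158001)], [(nat_lit 0x15a001), (nat_lit 0x20e001), (nat_lit 0x15b001), (nat_lit 0x213001)], [(nat_lit 0x214001), (nat_lit 0x15d001), (nat_lit 0x215001), (nat_lit 0x15c001)], [(nat_lit 0x212001), (nat_lit 0x216001), (nat_lit 0x15e001), (nat_lit 0x217001)], [(nat_lit 0x160001), (nat_lit 0x1ae001), (nat_lit 0x218001), (nat_lit 0x15f001)], [(nat_lit 0x219001), (nat_lit 0x21a001), (nat_lit 0x161001), (nat_lit 0x21c001)], [(nat_lit 0x21d001), (nat_lit 0x162001), (nat_lit 0x21b001), (nat_lit 0x21e001)], [(nat_lit 0x1b2001), (nat_lit 0x21f001), (nat_lit 0x20c001), (nat_lit 0x163001)], [(nat_lit 0x165001), (nat_lit 0x220001), (nat_lit 0x164001), (nat_lit 0x222001)], [(nat_lit 0x224001), (nat_lit 0x166001), (nat_lit 0x167001), (nat_lit 0x226001)], [(nat_lit 0x223001),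 (nat_lit 0x227001), (nat_lit 0x228001), (nat_lit 0x168001)], [(nat_lit 0x169001), (nat_lit 0x16a001), (nat_lit 0x225001), (nat_lit 0x229001)], [(nat_lit 0x22a001), (nat_lit 0x16c001), (nat_lit 0x22c001), (nat_lit 0x16b001)], [(nat_lit 0x16e001), (nat_lit 0x22d001), (nat_lit 0x16d001), (nat_lit 0x22e001)], [(nat_lit 0x170001), (nat_lit 0x171001), (nat_lit 0x230001), (nat_lit 0x16f001)], [(nat_lit 0x231001), (nat_lit 0x232001), (nat_lit 0x172001), (nat_lit 0x234001)], [(nat_lit 0x235001), (nat_lit 0x173001), (nat_lit 0x233001), (nat_lit 0x237001)], [(nat_lit 0x175001), (nat_lit 0x238001), (nat_lit 0x239001), (nat_lit 0x174001)], [(nat_lit 0x23b001), (nat_lit 0x176001), (nat_lit 0x221001), (nat_lit 0x23d001)], [(nat_lit 0x178001), (nat_lit 0x23e001), (nat_lit 0x23f001), (nat_lit 0x177001)], [(nat_lit 0x179001), (nat_lit 0x23c001), (nat_lit 0x17a001), (nat_lit 0x241001)], [(nat_lit 0x242001), (nat_lit 0x17c001),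 (nat_lit 0x243001), (nat_lit 0x17b001)], [(nat_lit 0x240001), (nat_lit 0x244001), (nat_lit 0x17d001), (nat_lit 0x245001)], [(nat_lit 0x17f001), (nat_lit 0x22b001), (nat_lit 0x246001), (nat_lit 0x17e001)], [(nat_lit 0x247001), (nat_lit 0x248001), (nat_lit 0x180001), (nat_lit 0x24a001)], [(nat_lit 0x24b001), (nat_lit 0x181001), (nat_lit 0x249001), (nat_lit 0x24c001)], [(nat_lit 0x22f001), (nat_lit 0x24d001), (nat_lit 0x24e001), (nat_lit 0x182001)], [(nat_lit 0x184001), (nat_lit 0x24f001), (nat_lit 0x183001), (nat_lit 0x250001)], [(nat_lit 0x252001), (nat_lit 0x185001), (nat_lit 0x186001), (nat_lit 0x254001)], [(nat_lit 0x251001), (nat_lit 0x255001), (nat_lit 0x256001), (nat_lit 0x187001)], [(nat_lit 0x188001), (nat_lit 0x236001), (nat_lit 0x253001), (nat_lit 0x25e001)], [(nat_lit 0x25f001), (nat_lit 0x18a001), (nat_lit 0x260001), (nat_lit 0x189001)], [(nat_lit 0x23a001), (nat_lit 0x261001), (nat_lit 0x18b001),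 (nat_lit 0x262001)], [(nat_lit 0x18c001), (nat_lit 0x18d001), (nat_lit 0x18e001), (nat_lit 0x263001)], [(nat_lit 0x264001), (nat_lit 0x190001), (nat_lit 0x266001), (nat_lit 0x18f001)], [(nat_lit 0x192001), (nat_lit 0x267001), (nat_lit 0x191001), (nat_lit 0x268001)], [(nat_lit 0x194001), (nat_lit 0x265001), (nat_lit 0x26a001), (nat_lit 0x193001)], [(nat_lit 0x26b001), (nat_lit 0x26c001), (nat_lit 0x195001), (nat_lit 0x26e001)], [(nat_lit 0x276001), (nat_lit 0x196001), (nat_lit 0x26d001), (nat_lit 0x277001)], [(nat_lit 0x269001), (nat_lit 0x278001), (nat_lit 0x279001), (nat_lit 0x197001)], [(nat_lit 0x199001), (nat_lit 0x27a001), (nat_lit 0x198001), (nat_lit 0x27c001)], [(nat_lit 0x27e001), (nat_lit 0x19a001), (nat_lit 0x19b001), (nat_lit 0x281001)], [(nat_lit 0x27d001), (nat_lit 0x283001), (nat_lit 0x285001), (nat_lit 0x19c001)], [(nat_lit 0x19d001), (nat_lit 0x19e001), (nat_lit 0x27f001), (nat_lit 0x286001)],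 [(nat_lit 0x287001), (nat_lit 0x1a0001), (nat_lit 0x289001), (nat_lit 0x19f001)], [(nat_lit 0x1a2001), (nat_lit 0x28c001), (nat_lit 0x1a1001), (nat_lit 0x291001)], [(nat_lit 0x294001), (nat_lit 0x1a3001), (nat_lit 0x1a4001), (nat_lit 0x297001)], [(nat_lit 0x1a6001), (nat_lit 0x298001), (nat_lit 0x299001), (nat_lit 0x1a5001)], [(nat_lit 0x1a7001), (nat_lit 0x295001), (nat_lit 0x1a8001), (nat_lit 0x29b001)], [(nat_lit 0x29c001), (nat_lit 0x1aa001), (nat_lit 0x29e001), (nat_lit 0x1a9001)], [(nat_lit 0x29a001), (nat_lit 0x2a1001), (nat_lit 0x1ab001), (nat_lit 0x2a2001)], [(nat_lit 0x1ad001), (nat_lit 0x1ae001), (nat_lit 0x2a3001), (nat_lit 0x1ac001)], [(nat_lit 0x2a4001), (nat_lit 0x2a5001), (nat_lit 0x1af001), (nat_lit 0x2a9001)], [(nat_lit 0x2ab001), (nat_lit 0x1b0001), (nat_lit 0x2a6001), (nat_lit 0x2ae001)], [(nat_lit 0x1b2001), (nat_lit 0x2af001), (nat_lit 0x293001), (nat_lit 0x1b1001)], [(nat_lit 0x2b0001),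 (nat_lit 0x1b3001), (nat_lit 0x1b4001), (nat_lit 0x2b3001)], [(nat_lit 0x1b6001), (nat_lit 0x2b4001), (nat_lit 0x2b5001), (nat_lit 0x1b5001)], [(nat_lit 0x1b7001), (nat_lit 0x2b1001), (nat_lit 0x1b8001), (nat_lit 0x2b7001)], [(nat_lit 0x2b8001), (nat_lit 0x1ba001), (nat_lit 0x2b9001), (nat_lit 0x1b9001)], [(nat_lit 0x2b6001), (nat_lit 0x2ba001), (nat_lit 0x1bb001), (nat_lit 0x2bb001)], [(nat_lit 0x1bd001), (nat_lit 0x1be001), (nat_lit 0x2bc001), (nat_lit 0x1bc001)], [(nat_lit 0x2bd001), (nat_lit 0x2be001), (nat_lit 0x1bf001), (nat_lit 0x2c2001)], [(nat_lit 0x2c4001), (nat_lit 0x1c0001), (nat_lit 0x2bf001), (nat_lit 0x28b001)], [(nat_lit 0x1c2001), (nat_lit 0x28a001), (nat_lit 0x28d001), (nat_lit 0x1c1001)], [(nat_lit 0x1c4001), (nat_lit 0x2c7001), (nat_lit 0x1c3001), (nat_lit 0x2c9001)], [(nat_lit 0x2cb001), (nat_lit 0x1c5001), (nat_lit 0x1c6001), (nat_lit 0x2cd001)], [(nat_lit 0x2ca001), (nat_lit 0x2ce001),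 (nat_lit 0x2cf001), (nat_lit 0x1c7001)], [(nat_lit 0x1c8001), (nat_lit 0x1c9001), (nat_lit 0x2cc001), (nat_lit 0x2d0001)], [(nat_lit 0x2d1001), (nat_lit 0x1cb001), (nat_lit 0x2d3001), (nat_lit 0x1ca001)], [(nat_lit 0x1cd001), (nat_lit 0x2d4001), (nat_lit 0x1cc001), (nat_lit 0x2d5001)], [(nat_lit 0x1ce001), (nat_lit 0x1cf001), (nat_lit 0x2b2001), (nat_lit 0x2d7001)], [(nat_lit 0x2d8001), (nat_lit 0x1d1001), (nat_lit 0x2da001), (nat_lit 0x1d0001)], [(nat_lit 0x1d3001), (nat_lit 0x2aa001), (nat_lit 0x1d2001), (nat_lit 0x2a8001)], [(nat_lit 0x1d5001), (nat_lit 0x2d9001), (nat_lit 0x2db001), (nat_lit 0x1d4001)], [(nat_lit 0x2dc001), (nat_lit 0x2dd001), (nat_lit 0x1d6001), (nat_lit 0x2df001)], [(nat_lit 0x2e0001), (nat_lit 0x1d7001), (nat_lit 0x2de001), (nat_lit 0x2e1001)], [(nat_lit 0x2a7001), (nat_lit 0x2e2001), (nat_lit 0x2ad001), (nat_lit 0x1d8001)], [(nat_lit 0x1da001), (nat_lit 0x2e3001), (nat_lit 0x1d9001),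 (nat_lit 0x2e4001)], [(nat_lit 0x2e6001), (nat_lit 0x1db001), (nat_lit 0x1dc001), (nat_lit 0x2e8001)], [(nat_lit 0x2e5001), (nat_lit 0x2e9001), (nat_lit 0x2ea001), (nat_lit 0x1dd001)], [(nat_lit 0x1de001), (nat_lit 0x2c5001), (nat_lit 0x2e7001), (nat_lit 0x2eb001)], [(nat_lit 0x2ec001), (nat_lit 0x1e0001), (nat_lit 0x290001), (nat_lit 0x1df001)], [(nat_lit 0x28e001), (nat_lit 0x28f001), (nat_lit 0x1e1001), (nat_lit 0x2ed001)], [(nat_lit 0x2f3001), (nat_lit 0x1e2001), (nat_lit 0x2c8001), (nat_lit 0x2f5001)], [(nat_lit 0x1e4001), (nat_lit 0x2f6001), (nat_lit 0x284001), (nat_lit 0x1e3001)], [(nat_lit 0x1e5001), (nat_lit 0x2f4001), (nat_lit 0x1e6001), (nat_lit 0x2f7001)], [(nat_lit 0x2f8001), (nat_lit 0x1e8001), (nat_lit 0x2f9001), (nat_lit 0x1e7001)], [(nat_lit 0x282001), (nat_lit 0x2fa001), (nat_lit 0x1e9001), (nat_lit 0x280001)], [(nat_lit 0x1eb001), (nat_lit 0x2d2001), (nat_lit 0x2fb001), (nat_lit 0x1ea001)],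 [(nat_lit 0x2fc001), (nat_lit 0x2fd001), (nat_lit 0x1ec001), (nat_lit 0x2ff001)], [(nat_lit 0x300001), (nat_lit 0x1ed001), (nat_lit 0x2fe001), (nat_lit 0x302001)], [(nat_lit 0x2d6001), (nat_lit 0x303001), (nat_lit 0x2ee001), (nat_lit 0x1ee001)], [(nat_lit 0x1f0001), (nat_lit 0x1f1001), (nat_lit 0x304001), (nat_lit 0x1ef001)], [(nat_lit 0x305001), (nat_lit 0x306001), (nat_lit 0x1f2001), (nat_lit 0x308001)], [(nat_lit 0x309001), (nat_lit 0x1f3001), (nat_lit 0x307001), (nat_lit 0x2f2001)], [(nat_lit 0x1f5001), (nat_lit 0x2f1001), (nat_lit 0x2ef001), (nat_lit 0x1f4001)], [(nat_lit 0x1f7001), (nat_lit 0x30b001), (nat_lit 0x1f6001), (nat_lit 0x2a0001)], [(nat_lit 0x30c001), (nat_lit 0x1f8001), (nat_lit 0x1f9001), (nat_lit 0x30e001)], [(nat_lit 0x29f001), (nat_lit 0x30f001), (nat_lit 0x29d001), (nat_lit 0x1fa001)], [(nat_lit 0x1fb001), (nat_lit 0x30a001), (nat_lit 0x30d001), (nat_lit 0x310001)], [(nat_lit 0x311001),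 (nat_lit 0x1fd001), (nat_lit 0x312001), (nat_lit 0x1fc001)], [(nat_lit 0x2f0001), (nat_lit 0x301001), (nat_lit 0x1fe001), (nat_lit 0x313001)], [(nat_lit 0x314001), (nat_lit 0x1ff001), (nat_lit 0x27b001), (nat_lit 0x316001)], [(nat_lit 0x201001), (nat_lit 0x317001), (nat_lit 0x318001), (nat_lit 0x200001)], [(nat_lit 0x202001), (nat_lit 0x315001), (nat_lit 0x203001), (nat_lit 0x257001)], [(nat_lit 0x258001), (nat_lit 0x205001), (nat_lit 0x259001), (nat_lit 0x204001)], [(nat_lit 0x319001), (nat_lit 0x31a001), (nat_lit 0x206001), (nat_lit 0x31b001)], [(nat_lit 0x208001), (nat_lit 0x288001), (nat_lit 0x31c001), (nat_lit 0x207001)], [(nat_lit 0x31d001), (nat_lit 0x25a001), (nat_lit 0x209001), (nat_lit 0x25c001)], [(nat_lit 0x25d001), (nat_lit 0x20a001), (nat_lit 0x25b001), (nat_lit 0x31e001)], [(nat_lit 0x292001), (nat_lit 0x31f001), (nat_lit 0x20c001), (nat_lit 0x20b001)], [(nat_lit 0x20d001), (nat_lit 0x20e001),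 (nat_lit 0x296001), (nat_lit 0x320001)], [(nat_lit 0x321001), (nat_lit 0x210001), (nat_lit 0x323001), (nat_lit 0x20f001)], [(nat_lit 0x212001), (nat_lit 0x2c3001), (nat_lit 0x211001), (nat_lit 0x2c0001)], [(nat_lit 0x214001), (nat_lit 0x322001), (nat_lit 0x26f001), (nat_lit 0x213001)], [(nat_lit 0x270001), (nat_lit 0x324001), (nat_lit 0x215001), (nat_lit 0x271001)], [(nat_lit 0x326001), (nat_lit 0x216001), (nat_lit 0x325001), (nat_lit 0x327001)], [(nat_lit 0x2c1001), (nat_lit 0x328001), (nat_lit 0x2c6001), (nat_lit 0x217001)], [(nat_lit 0x219001), (nat_lit 0x329001), (nat_lit 0x218001), (nat_lit 0x32a001)], [(nat_lit 0x272001), (nat_lit 0x21a001), (nat_lit 0x21b001), (nat_lit 0x274001)], [(nat_lit 0x32b001), (nat_lit 0x275001), (nat_lit 0x32c001), (nat_lit 0x21c001)], [(nat_lit 0x21d001), (nat_lit 0x2ac001), (nat_lit 0x273001), (nat_lit 0x32d001)], [(nat_lit 0x32e001), (nat_lit 0x21f001), (nat_lit 0x32f001),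 (nat_lit 0x21e001)], [(nat_lit 0x330001), (nat_lit 0x220001), (nat_lit 0x221001), (nat_lit 0x333001)], [(nat_lit 0x223001), (nat_lit 0x334001), (nat_lit 0x335001), (nat_lit 0x222001)], [(nat_lit 0x224001), (nat_lit 0x331001), (nat_lit 0x225001), (nat_lit 0x337001)], [(nat_lit 0x338001), (nat_lit 0x227001), (nat_lit 0x339001), (nat_lit 0x226001)], [(nat_lit 0x336001), (nat_lit 0x33a001), (nat_lit 0x228001), (nat_lit 0x33b001)], [(nat_lit 0x22a001), (nat_lit 0x22b001), (nat_lit 0x33c001), (nat_lit 0x229001)], [(nat_lit 0x33d001), (nat_lit 0x33e001), (nat_lit 0x22c001), (nat_lit 0x342001)], [(nat_lit 0x344001), (nat_lit 0x22d001), (nat_lit 0x33f001), (nat_lit 0x25c001)], [(nat_lit 0x22f001), (nat_lit 0x25a001), (nat_lit 0x25b001), (nat_lit 0x22e001)], [(nat_lit 0x231001), (nat_lit 0x348001), (nat_lit 0x230001), (nat_lit 0x34a001)], [(nat_lit 0x34d001), (nat_lit 0x232001), (nat_lit 0x233001), (nat_lit 0x34f001)],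 [(nat_lit 0x34b001), (nat_lit 0x350001), (nat_lit 0x351001), (nat_lit 0x234001)], [(nat_lit 0x235001), (nat_lit 0x236001), (nat_lit 0x34e001), (nat_lit 0x354001)], [(nat_lit 0x355001), (nat_lit 0x238001), (nat_lit 0x357001), (nat_lit 0x237001)], [(nat_lit 0x23a001), (nat_lit 0x358001), (nat_lit 0x239001), (nat_lit 0x359001)], [(nat_lit 0x23b001), (nat_lit 0x23c001), (nat_lit 0x332001), (nat_lit 0x362001)], [(nat_lit 0x363001), (nat_lit 0x23e001), (nat_lit 0x365001), (nat_lit 0x23d001)], [(nat_lit 0x240001), (nat_lit 0x275001), (nat_lit 0x23f001), (nat_lit 0x274001)], [(nat_lit 0x242001), (nat_lit 0x364001), (nat_lit 0x367001), (nat_lit 0x241001)], [(nat_lit 0x368001), (nat_lit 0x369001), (nat_lit 0x243001), (nat_lit 0x36b001)], [(nat_lit 0x36c001), (nat_lit 0x244001), (nat_lit 0x36a001), (nat_lit 0x36f001)], [(nat_lit 0x272001), (nat_lit 0x371001), (nat_lit 0x273001), (nat_lit 0x245001)], [(nat_lit 0x247001),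 (nat_lit 0x373001), (nat_lit 0x246001), (nat_lit 0x374001)], [(nat_lit 0x376001), (nat_lit 0x248001), (nat_lit 0x249001), (nat_lit 0x379001)], [(nat_lit 0x375001), (nat_lit 0x37b001), (nat_lit 0x37d001), (nat_lit 0x24a001)], [(nat_lit 0x24b001), (nat_lit 0x345001), (nat_lit 0x377001), (nat_lit 0x37e001)], [(nat_lit 0x37f001), (nat_lit 0x24d001), (nat_lit 0x290001), (nat_lit 0x24c001)], [(nat_lit 0x25d001), (nat_lit 0x28f001), (nat_lit 0x24e001), (nat_lit 0x382001)], [(nat_lit 0x386001), (nat_lit 0x24f001), (nat_lit 0x349001), (nat_lit 0x388001)], [(nat_lit 0x251001), (nat_lit 0x389001), (nat_lit 0x259001), (nat_lit 0x250001)], [(nat_lit 0x252001), (nat_lit 0x387001), (nat_lit 0x253001), (nat_lit 0x38b001)], [(nat_lit 0x38c001), (nat_lit 0x255001), (nat_lit 0x38d001), (nat_lit 0x254001)], [(nat_lit 0x258001), (nat_lit 0x38e001), (nat_lit 0x256001), (nat_lit 0x257001)], [(nat_lit 0x25f001), (nat_lit 0x356001),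 (nat_lit 0x391001), (nat_lit 0x25e001)], [(nat_lit 0x392001), (nat_lit 0x393001), (nat_lit 0x260001), (nat_lit 0x397001)], [(nat_lit 0x399001), (nat_lit 0x261001), (nat_lit 0x394001), (nat_lit 0x39c001)], [(nat_lit 0x35a001), (nat_lit 0x39d001), (nat_lit 0x385001), (nat_lit 0x262001)], [(nat_lit 0x264001), (nat_lit 0x265001), (nat_lit 0x3a5001), (nat_lit 0x263001)], [(nat_lit 0x3a6001), (nat_lit 0x3a7001), (nat_lit 0x266001), (nat_lit 0x3a9001)], [(nat_lit 0x3aa001), (nat_lit 0x267001), (nat_lit 0x3a8001), (nat_lit 0x361001)], [(nat_lit 0x269001), (nat_lit 0x360001), (nat_lit 0x35e001), (nat_lit 0x268001)], [(nat_lit 0x26b001), (nat_lit 0x3ac001), (nat_lit 0x26a001), (nat_lit 0x271001)], [(nat_lit 0x3ae001), (nat_lit 0x26c001), (nat_lit 0x26d001), (nat_lit 0x3b0001)], [(nat_lit 0x270001), (nat_lit 0x3b1001), (nat_lit 0x26f001), (nat_lit 0x26e001)], [(nat_lit 0x276001), (nat_lit 0x3ab001), (nat_lit 0x3af001),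 (nat_lit 0x3b2001)], [(nat_lit 0x3b3001), (nat_lit 0x278001), (nat_lit 0x3b4001), (nat_lit 0x277001)], [(nat_lit 0x35f001), (nat_lit 0x39a001), (nat_lit 0x279001), (nat_lit 0x3b7001)], [(nat_lit 0x3ba001), (nat_lit 0x27a001), (nat_lit 0x27b001), (nat_lit 0x3be001)], [(nat_lit 0x27d001), (nat_lit 0x3c0001), (nat_lit 0x3c1001), (nat_lit 0x27c001)], [(nat_lit 0x27e001), (nat_lit 0x3bb001), (nat_lit 0x27f001), (nat_lit 0x280001)], [(nat_lit 0x282001), (nat_lit 0x283001), (nat_lit 0x284001), (nat_lit 0x281001)], [(nat_lit 0x3c2001), (nat_lit 0x3c4001), (nat_lit 0x285001), (nat_lit 0x3c6001)], [(nat_lit 0x287001), (nat_lit 0x288001), (nat_lit 0x3c9001), (nat_lit 0x286001)], [(nat_lit 0x3ca001), (nat_lit 0x28a001), (nat_lit 0x289001), (nat_lit 0x28b001)], [(nat_lit 0x28e001), (nat_lit 0x28c001), (nat_lit 0x28d001), (nat_lit 0x3cd001)], [(nat_lit 0x292001), (nat_lit 0x3cf001), (nat_lit 0x293001), (nat_lit 0x291001)],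 [(nat_lit 0x294001), (nat_lit 0x295001), (nat_lit 0x296001), (nat_lit 0x3d1001)], [(nat_lit 0x3d2001), (nat_lit 0x298001), (nat_lit 0x3d4001), (nat_lit 0x297001)], [(nat_lit 0x29a001), (nat_lit 0x343001), (nat_lit 0x299001), (nat_lit 0x340001)], [(nat_lit 0x29c001), (nat_lit 0x3d3001), (nat_lit 0x29d001), (nat_lit 0x29b001)], [(nat_lit 0x29f001), (nat_lit 0x3d5001), (nat_lit 0x29e001), (nat_lit 0x2a0001)], [(nat_lit 0x3d8001), (nat_lit 0x2a1001), (nat_lit 0x3d6001), (nat_lit 0x3d9001)], [(nat_lit 0x341001), (nat_lit 0x3da001), (nat_lit 0x346001), (nat_lit 0x2a2001)], [(nat_lit 0x2a4001), (nat_lit 0x3db001), (nat_lit 0x2a3001), (nat_lit 0x3df001)], [(nat_lit 0x2a7001), (nat_lit 0x2a5001), (nat_lit 0x2a6001), (nat_lit 0x2a8001)], [(nat_lit 0x3e0001), (nat_lit 0x2aa001), (nat_lit 0x3e3001), (nat_lit 0x2a9001)], [(nat_lit 0x2ab001), (nat_lit 0x2ac001), (nat_lit 0x2ad001), (nat_lit 0x3e7001)], [(nat_lit 0x3e8001),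 (nat_lit 0x2af001), (nat_lit 0x3eb001), (nat_lit 0x2ae001)], [(nat_lit 0x2b0001), (nat_lit 0x2b1001), (nat_lit 0x2b2001), (nat_lit 0x3ef001)], [(nat_lit 0x3f0001), (nat_lit 0x2b4001), (nat_lit 0x3f2001), (nat_lit 0x2b3001)], [(nat_lit 0x2b6001), (nat_lit 0x398001), (nat_lit 0x2b5001), (nat_lit 0x395001)], [(nat_lit 0x2b8001), (nat_lit 0x3f1001), (nat_lit 0x3f3001), (nat_lit 0x2b7001)], [(nat_lit 0x3f4001), (nat_lit 0x3f6001), (nat_lit 0x2b9001), (nat_lit 0x3f8001)], [(nat_lit 0x3fb001), (nat_lit 0x2ba001), (nat_lit 0x3f7001), (nat_lit 0x3b6001)], [(nat_lit 0x396001), (nat_lit 0x3b5001), (nat_lit 0x39b001), (nat_lit 0x2bb001)], [(nat_lit 0x2bd001), (nat_lit 0x3fc001), (nat_lit 0x2bc001), (nat_lit 0x400001)], [(nat_lit 0x2c1001), (nat_lit 0x2be001), (nat_lit 0x2bf001), (nat_lit 0x2c0001)], [(nat_lit 0x401001), (nat_lit 0x2c3001), (nat_lit 0x403001), (nat_lit 0x2c2001)], [(nat_lit 0x2c4001), (nat_lit 0x2c5001),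 (nat_lit 0x2c6001), (nat_lit 0x3cc001)], [(nat_lit 0x405001), (nat_lit 0x2c7001), (nat_lit 0x2c8001), (nat_lit 0x408001)], [(nat_lit 0x2ca001), (nat_lit 0x409001), (nat_lit 0x37c001), (nat_lit 0x2c9001)], [(nat_lit 0x2cb001), (nat_lit 0x406001), (nat_lit 0x2cc001), (nat_lit 0x40a001)], [(nat_lit 0x40b001), (nat_lit 0x2ce001), (nat_lit 0x40d001), (nat_lit 0x2cd001)], [(nat_lit 0x37a001), (nat_lit 0x410001), (nat_lit 0x2cf001), (nat_lit 0x378001)], [(nat_lit 0x2d1001), (nat_lit 0x2d2001), (nat_lit 0x411001), (nat_lit 0x2d0001)], [(nat_lit 0x412001), (nat_lit 0x2f1001), (nat_lit 0x2d3001), (nat_lit 0x2f2001)], [(nat_lit 0x2f0001), (nat_lit 0x2d4001), (nat_lit 0x2ef001), (nat_lit 0x3ee001)], [(nat_lit 0x2d6001), (nat_lit 0x3ed001), (nat_lit 0x3d0001), (nat_lit 0x2d5001)], [(nat_lit 0x2d8001), (nat_lit 0x2d9001), (nat_lit 0x415001), (nat_lit 0x2d7001)], [(nat_lit 0x416001), (nat_lit 0x3e5001), (nat_lit 0x2da001),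 (nat_lit 0x417001)], [(nat_lit 0x2dc001), (nat_lit 0x419001), (nat_lit 0x2db001), (nat_lit 0x40f001)], [(nat_lit 0x41a001), (nat_lit 0x2dd001), (nat_lit 0x2de001), (nat_lit 0x41c001)], [(nat_lit 0x40e001), (nat_lit 0x41d001), (nat_lit 0x40c001), (nat_lit 0x2df001)], [(nat_lit 0x2e0001), (nat_lit 0x3e1001), (nat_lit 0x41b001), (nat_lit 0x3de001)], [(nat_lit 0x3dc001), (nat_lit 0x2e2001), (nat_lit 0x372001), (nat_lit 0x2e1001)], [(nat_lit 0x41e001), (nat_lit 0x2e3001), (nat_lit 0x3fe001), (nat_lit 0x421001)], [(nat_lit 0x2e5001), (nat_lit 0x422001), (nat_lit 0x423001), (nat_lit 0x2e4001)], [(nat_lit 0x2e6001), (nat_lit 0x41f001), (nat_lit 0x2e7001), (nat_lit 0x353001)], [(nat_lit 0x352001), (nat_lit 0x2e9001), (nat_lit 0x34c001), (nat_lit 0x2e8001)], [(nat_lit 0x424001), (nat_lit 0x427001), (nat_lit 0x2ea001), (nat_lit 0x428001)], [(nat_lit 0x2ec001), (nat_lit 0x3cb001), (nat_lit 0x381001), (nat_lit 0x2eb001)],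 [(nat_lit 0x3ce001), (nat_lit 0x384001), (nat_lit 0x2ee001), (nat_lit 0x2ed001)], [(nat_lit 0x2f3001), (nat_lit 0x2f4001), (nat_lit 0x407001), (nat_lit 0x42b001)], [(nat_lit 0x42c001), (nat_lit 0x2f6001), (nat_lit 0x3c5001), (nat_lit 0x2f5001)], [(nat_lit 0x2f8001), (nat_lit 0x42d001), (nat_lit 0x3fa001), (nat_lit 0x2f7001)], [(nat_lit 0x3f9001), (nat_lit 0x42e001), (nat_lit 0x2f9001), (nat_lit 0x3f5001)], [(nat_lit 0x3bf001), (nat_lit 0x2fa001), (nat_lit 0x42f001), (nat_lit 0x3bd001)], [(nat_lit 0x2fc001), (nat_lit 0x430001), (nat_lit 0x2fb001), (nat_lit 0x433001)], [(nat_lit 0x3a0001), (nat_lit 0x2fd001), (nat_lit 0x2fe001), (nat_lit 0x39f001)], [(nat_lit 0x434001), (nat_lit 0x3a1001), (nat_lit 0x435001), (nat_lit 0x2ff001)], [(nat_lit 0x300001), (nat_lit 0x301001), (nat_lit 0x3a2001), (nat_lit 0x436001)], [(nat_lit 0x437001), (nat_lit 0x303001), (nat_lit 0x39e001), (nat_lit 0x302001)], [(nat_lit 0x305001),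 (nat_lit 0x439001), (nat_lit 0x304001), (nat_lit 0x43b001)], [(nat_lit 0x429001), (nat_lit 0x306001), (nat_lit 0x307001), (nat_lit 0x425001)], [(nat_lit 0x43c001), (nat_lit 0x426001), (nat_lit 0x43d001), (nat_lit 0x308001)], [(nat_lit 0x309001), (nat_lit 0x30a001), (nat_lit 0x42a001), (nat_lit 0x413001)], [(nat_lit 0x43e001), (nat_lit 0x30b001), (nat_lit 0x43a001), (nat_lit 0x3d7001)], [(nat_lit 0x30c001), (nat_lit 0x43f001), (nat_lit 0x30d001), (nat_lit 0x440001)], [(nat_lit 0x441001), (nat_lit 0x30f001), (nat_lit 0x442001), (nat_lit 0x30e001)], [(nat_lit 0x311001), (nat_lit 0x414001), (nat_lit 0x432001), (nat_lit 0x310001)], [(nat_lit 0x431001), (nat_lit 0x3a3001), (nat_lit 0x312001), (nat_lit 0x3a4001)], [(nat_lit 0x3ec001), (nat_lit 0x438001), (nat_lit 0x3ea001), (nat_lit 0x313001)], [(nat_lit 0x314001), (nat_lit 0x315001), (nat_lit 0x3bc001), (nat_lit 0x390001)], [(nat_lit 0x38f001), (nat_lit 0x317001),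 (nat_lit 0x443001), (nat_lit 0x316001)], [(nat_lit 0x319001), (nat_lit 0x418001), (nat_lit 0x318001), (nat_lit 0x3e6001)], [(nat_lit 0x444001), (nat_lit 0x31a001), (nat_lit 0x38a001), (nat_lit 0x445001)], [(nat_lit 0x3e4001), (nat_lit 0x446001), (nat_lit 0x3e2001), (nat_lit 0x31b001)], [(nat_lit 0x31d001), (nat_lit 0x380001), (nat_lit 0x31c001), (nat_lit 0x347001)], [(nat_lit 0x383001), (nat_lit 0x31f001), (nat_lit 0x35b001), (nat_lit 0x31e001)], [(nat_lit 0x321001), (nat_lit 0x322001), (nat_lit 0x447001), (nat_lit 0x320001)], [(nat_lit 0x448001), (nat_lit 0x404001), (nat_lit 0x323001), (nat_lit 0x449001)], [(nat_lit 0x44a001), (nat_lit 0x324001), (nat_lit 0x325001), (nat_lit 0x3ad001)], [(nat_lit 0x326001), (nat_lit 0x402001), (nat_lit 0x44b001), (nat_lit 0x3ff001)], [(nat_lit 0x3fd001), (nat_lit 0x328001), (nat_lit 0x420001), (nat_lit 0x327001)], [(nat_lit 0x370001), (nat_lit 0x329001), (nat_lit 0x3dd001),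 (nat_lit 0x36e001)], [(nat_lit 0x32b001), (nat_lit 0x36d001), (nat_lit 0x3c8001), (nat_lit 0x32a001)], [(nat_lit 0x3c7001), (nat_lit 0x366001), (nat_lit 0x32c001), (nat_lit 0x3c3001)], [(nat_lit 0x32e001), (nat_lit 0x3e9001), (nat_lit 0x3b9001), (nat_lit 0x32d001)], [(nat_lit 0x3b8001), (nat_lit 0x35c001), (nat_lit 0x32f001), (nat_lit 0x35d001)], [(nat_lit 0x330001), (nat_lit 0x331001), (nat_lit 0x332001), (nat_lit 0x44c001)], [(nat_lit 0x44d001), (nat_lit 0x334001), (nat_lit 0x44f001), (nat_lit 0x333001)], [(nat_lit 0x336001), (nat_lit 0x3a1001), (nat_lit 0x335001), (nat_lit 0x39f001)], [(nat_lit 0x338001), (nat_lit 0x44e001), (nat_lit 0x451001), (nat_lit 0x337001)], [(nat_lit 0x452001), (nat_lit 0x454001), (nat_lit 0x339001), (nat_lit 0x456001)], [(nat_lit 0x459001), (nat_lit 0x33a001), (nat_lit 0x455001), (nat_lit 0x3a4001)], [(nat_lit 0x3a0001), (nat_lit 0x3a3001), (nat_lit 0x3a2001), (nat_lit 0x33b001)],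 [(nat_lit 0x33d001), (nat_lit 0x45c001), (nat_lit 0x33c001), (nat_lit 0x460001)], [(nat_lit 0x341001), (nat_lit 0x33e001), (nat_lit 0x33f001), (nat_lit 0x340001)], [(nat_lit 0x461001), (nat_lit 0x343001), (nat_lit 0x463001), (nat_lit 0x342001)], [(nat_lit 0x344001), (nat_lit 0x345001), (nat_lit 0x346001), (nat_lit 0x347001)], [(nat_lit 0x465001), (nat_lit 0x348001), (nat_lit 0x349001), (nat_lit 0x468001)], [(nat_lit 0x34b001), (nat_lit 0x469001), (nat_lit 0x34c001), (nat_lit 0x34a001)], [(nat_lit 0x34d001), (nat_lit 0x466001), (nat_lit 0x34e001), (nat_lit 0x46b001)], [(nat_lit 0x46c001), (nat_lit 0x350001), (nat_lit 0x46e001), (nat_lit 0x34f001)], [(nat_lit 0x352001), (nat_lit 0x471001), (nat_lit 0x351001), (nat_lit 0x353001)], [(nat_lit 0x355001), (nat_lit 0x356001), (nat_lit 0x474001), (nat_lit 0x354001)], [(nat_lit 0x475001), (nat_lit 0x360001), (nat_lit 0x357001), (nat_lit 0x361001)], [(nat_lit 0x35f001),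 (nat_lit 0x358001), (nat_lit 0x35e001), (nat_lit 0x35d001)], [(nat_lit 0x35a001), (nat_lit 0x35c001), (nat_lit 0x35b001), (nat_lit 0x359001)], [(nat_lit 0x363001), (nat_lit 0x364001), (nat_lit 0x478001), (nat_lit 0x362001)], [(nat_lit 0x479001), (nat_lit 0x366001), (nat_lit 0x365001), (nat_lit 0x47a001)], [(nat_lit 0x368001), (nat_lit 0x47c001), (nat_lit 0x367001), (nat_lit 0x470001)], [(nat_lit 0x47d001), (nat_lit 0x369001), (nat_lit 0x36a001), (nat_lit 0x480001)], [(nat_lit 0x46f001), (nat_lit 0x482001), (nat_lit 0x46d001), (nat_lit 0x36b001)], [(nat_lit 0x36c001), (nat_lit 0x36d001), (nat_lit 0x47e001), (nat_lit 0x36e001)], [(nat_lit 0x370001), (nat_lit 0x371001), (nat_lit 0x372001), (nat_lit 0x36f001)], [(nat_lit 0x484001), (nat_lit 0x373001), (nat_lit 0x45e001), (nat_lit 0x488001)], [(nat_lit 0x375001), (nat_lit 0x48a001), (nat_lit 0x48b001), (nat_lit 0x374001)], [(nat_lit 0x376001), (nat_lit 0x485001),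 (nat_lit 0x377001), (nat_lit 0x378001)], [(nat_lit 0x37a001), (nat_lit 0x37b001), (nat_lit 0x37c001), (nat_lit 0x379001)], [(nat_lit 0x48c001), (nat_lit 0x48f001), (nat_lit 0x37d001), (nat_lit 0x491001)], [(nat_lit 0x37f001), (nat_lit 0x380001), (nat_lit 0x381001), (nat_lit 0x37e001)], [(nat_lit 0x383001), (nat_lit 0x384001), (nat_lit 0x385001), (nat_lit 0x382001)], [(nat_lit 0x386001), (nat_lit 0x387001), (nat_lit 0x467001), (nat_lit 0x494001)], [(nat_lit 0x495001), (nat_lit 0x389001), (nat_lit 0x38a001), (nat_lit 0x388001)], [(nat_lit 0x38c001), (nat_lit 0x496001), (nat_lit 0x458001), (nat_lit 0x38b001)], [(nat_lit 0x457001), (nat_lit 0x498001), (nat_lit 0x38d001), (nat_lit 0x453001)], [(nat_lit 0x38f001), (nat_lit 0x38e001), (nat_lit 0x499001), (nat_lit 0x390001)], [(nat_lit 0x392001), (nat_lit 0x49b001), (nat_lit 0x391001), (nat_lit 0x49f001)], [(nat_lit 0x396001), (nat_lit 0x393001), (nat_lit 0x394001),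 (nat_lit 0x395001)], [(nat_lit 0x4a0001), (nat_lit 0x398001), (nat_lit 0x4a2001), (nat_lit 0x397001)], [(nat_lit 0x399001), (nat_lit 0x39a001), (nat_lit 0x39b001), (nat_lit 0x4a4001)], [(nat_lit 0x4a5001), (nat_lit 0x39d001), (nat_lit 0x39e001), (nat_lit 0x39c001)], [(nat_lit 0x3a6001), (nat_lit 0x4a8001), (nat_lit 0x3a5001), (nat_lit 0x4aa001)], [(nat_lit 0x492001), (nat_lit 0x3a7001), (nat_lit 0x3a8001), (nat_lit 0x48d001)], [(nat_lit 0x4ab001), (nat_lit 0x48e001), (nat_lit 0x4ad001), (nat_lit 0x3a9001)], [(nat_lit 0x3aa001), (nat_lit 0x3ab001), (nat_lit 0x493001), (nat_lit 0x476001)], [(nat_lit 0x4b0001), (nat_lit 0x3ac001), (nat_lit 0x4a9001), (nat_lit 0x3ad001)], [(nat_lit 0x3ae001), (nat_lit 0x4b1001), (nat_lit 0x3af001), (nat_lit 0x4b3001)], [(nat_lit 0x4b4001), (nat_lit 0x3b1001), (nat_lit 0x4b6001), (nat_lit 0x3b0001)], [(nat_lit 0x3b3001), (nat_lit 0x477001), (nat_lit 0x49d001), (nat_lit 0x3b2001)],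 [(nat_lit 0x49c001), (nat_lit 0x3b5001), (nat_lit 0x3b4001), (nat_lit 0x3b6001)], [(nat_lit 0x3b8001), (nat_lit 0x4a6001), (nat_lit 0x3b9001), (nat_lit 0x3b7001)], [(nat_lit 0x3ba001), (nat_lit 0x3bb001), (nat_lit 0x3bc001), (nat_lit 0x3bd001)], [(nat_lit 0x3bf001), (nat_lit 0x3c0001), (nat_lit 0x4b8001), (nat_lit 0x3be001)], [(nat_lit 0x3c2001), (nat_lit 0x47b001), (nat_lit 0x3c1001), (nat_lit 0x3c3001)], [(nat_lit 0x4ba001), (nat_lit 0x3c4001), (nat_lit 0x3c5001), (nat_lit 0x4bc001)], [(nat_lit 0x3c7001), (nat_lit 0x4bd001), (nat_lit 0x3c8001), (nat_lit 0x3c6001)], [(nat_lit 0x3ca001), (nat_lit 0x3cb001), (nat_lit 0x3c9001), (nat_lit 0x3cc001)], [(nat_lit 0x3ce001), (nat_lit 0x3cf001), (nat_lit 0x3d0001), (nat_lit 0x3cd001)], [(nat_lit 0x3d2001), (nat_lit 0x3d3001), (nat_lit 0x4be001), (nat_lit 0x3d1001)], [(nat_lit 0x4bf001), (nat_lit 0x464001), (nat_lit 0x3d4001), (nat_lit 0x4c1001)], [(nat_lit 0x4c2001),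 (nat_lit 0x3d5001), (nat_lit 0x3d6001), (nat_lit 0x3d7001)], [(nat_lit 0x3d8001), (nat_lit 0x462001), (nat_lit 0x4c4001), (nat_lit 0x45f001)], [(nat_lit 0x45d001), (nat_lit 0x3da001), (nat_lit 0x486001), (nat_lit 0x3d9001)], [(nat_lit 0x3dc001), (nat_lit 0x3db001), (nat_lit 0x3dd001), (nat_lit 0x3de001)], [(nat_lit 0x3e0001), (nat_lit 0x3e1001), (nat_lit 0x3e2001), (nat_lit 0x3df001)], [(nat_lit 0x3e4001), (nat_lit 0x3e5001), (nat_lit 0x3e3001), (nat_lit 0x3e6001)], [(nat_lit 0x3e8001), (nat_lit 0x3e9001), (nat_lit 0x3ea001), (nat_lit 0x3e7001)], [(nat_lit 0x3ec001), (nat_lit 0x3ed001), (nat_lit 0x3eb001), (nat_lit 0x3ee001)], [(nat_lit 0x3f0001), (nat_lit 0x3f1001), (nat_lit 0x4c6001), (nat_lit 0x3ef001)], [(nat_lit 0x4c7001), (nat_lit 0x4a3001), (nat_lit 0x3f2001), (nat_lit 0x4c9001)], [(nat_lit 0x3f4001), (nat_lit 0x4cc001), (nat_lit 0x3f3001), (nat_lit 0x3f5001)], [(nat_lit 0x4ce001), (nat_lit 0x3f6001),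 (nat_lit 0x3f7001), (nat_lit 0x4d0001)], [(nat_lit 0x3f9001), (nat_lit 0x4d1001), (nat_lit 0x3fa001), (nat_lit 0x3f8001)], [(nat_lit 0x3fb001), (nat_lit 0x4a1001), (nat_lit 0x4cf001), (nat_lit 0x49e001)], [(nat_lit 0x3fd001), (nat_lit 0x3fc001), (nat_lit 0x3fe001), (nat_lit 0x3ff001)], [(nat_lit 0x401001), (nat_lit 0x402001), (nat_lit 0x4d2001), (nat_lit 0x400001)], [(nat_lit 0x4d3001), (nat_lit 0x404001), (nat_lit 0x403001), (nat_lit 0x4d5001)], [(nat_lit 0x405001), (nat_lit 0x406001), (nat_lit 0x407001), (nat_lit 0x4d9001)], [(nat_lit 0x4da001), (nat_lit 0x409001), (nat_lit 0x490001), (nat_lit 0x408001)], [(nat_lit 0x40b001), (nat_lit 0x4db001), (nat_lit 0x40c001), (nat_lit 0x40a001)], [(nat_lit 0x40e001), (nat_lit 0x4dc001), (nat_lit 0x40d001), (nat_lit 0x40f001)], [(nat_lit 0x489001), (nat_lit 0x410001), (nat_lit 0x4dd001), (nat_lit 0x487001)], [(nat_lit 0x412001), (nat_lit 0x414001), (nat_lit 0x411001),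 (nat_lit 0x413001)], [(nat_lit 0x416001), (nat_lit 0x4df001), (nat_lit 0x415001), (nat_lit 0x4e3001)], [(nat_lit 0x4e4001), (nat_lit 0x418001), (nat_lit 0x4e6001), (nat_lit 0x417001)], [(nat_lit 0x4e8001), (nat_lit 0x419001), (nat_lit 0x4e1001), (nat_lit 0x4de001)], [(nat_lit 0x41a001), (nat_lit 0x4e9001), (nat_lit 0x41b001), (nat_lit 0x4af001)], [(nat_lit 0x4ae001), (nat_lit 0x41d001), (nat_lit 0x4ac001), (nat_lit 0x41c001)], [(nat_lit 0x41e001), (nat_lit 0x41f001), (nat_lit 0x420001), (nat_lit 0x473001)], [(nat_lit 0x472001), (nat_lit 0x422001), (nat_lit 0x4eb001), (nat_lit 0x421001)], [(nat_lit 0x424001), (nat_lit 0x426001), (nat_lit 0x423001), (nat_lit 0x425001)], [(nat_lit 0x4ed001), (nat_lit 0x427001), (nat_lit 0x46a001), (nat_lit 0x4f0001)], [(nat_lit 0x429001), (nat_lit 0x4f2001), (nat_lit 0x42a001), (nat_lit 0x428001)], [(nat_lit 0x42c001), (nat_lit 0x42d001), (nat_lit 0x4bb001), (nat_lit 0x42b001)],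 [(nat_lit 0x4b9001), (nat_lit 0x42e001), (nat_lit 0x42f001), (nat_lit 0x4cd001)], [(nat_lit 0x431001), (nat_lit 0x430001), (nat_lit 0x432001), (nat_lit 0x45b001)], [(nat_lit 0x434001), (nat_lit 0x45a001), (nat_lit 0x4d8001), (nat_lit 0x433001)], [(nat_lit 0x4d6001), (nat_lit 0x450001), (nat_lit 0x435001), (nat_lit 0x4d4001)], [(nat_lit 0x437001), (nat_lit 0x438001), (nat_lit 0x4a7001), (nat_lit 0x436001)], [(nat_lit 0x4f1001), (nat_lit 0x439001), (nat_lit 0x43a001), (nat_lit 0x4ef001)], [(nat_lit 0x43c001), (nat_lit 0x4ee001), (nat_lit 0x483001), (nat_lit 0x43b001)], [(nat_lit 0x481001), (nat_lit 0x4ec001), (nat_lit 0x43d001), (nat_lit 0x47f001)], [(nat_lit 0x43e001), (nat_lit 0x43f001), (nat_lit 0x4f3001), (nat_lit 0x4c5001)], [(nat_lit 0x441001), (nat_lit 0x4c3001), (nat_lit 0x4cb001), (nat_lit 0x440001)], [(nat_lit 0x4ca001), (nat_lit 0x4c0001), (nat_lit 0x442001), (nat_lit 0x4c8001)], [(nat_lit 0x49a001),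 (nat_lit 0x4e7001), (nat_lit 0x443001), (nat_lit 0x4f4001)], [(nat_lit 0x444001), (nat_lit 0x4e5001), (nat_lit 0x497001), (nat_lit 0x4e2001)], [(nat_lit 0x4e0001), (nat_lit 0x446001), (nat_lit 0x4ea001), (nat_lit 0x445001)], [(nat_lit 0x448001), (nat_lit 0x4b7001), (nat_lit 0x447001), (nat_lit 0x4f6001)], [(nat_lit 0x4f7001), (nat_lit 0x4d7001), (nat_lit 0x4f5001), (nat_lit 0x449001)], [(nat_lit 0x44a001), (nat_lit 0x4b5001), (nat_lit 0x44b001), (nat_lit 0x4b2001)], [(nat_lit 0x44d001), (nat_lit 0x44e001), (nat_lit 0x4f8001), (nat_lit 0x44c001)], [(nat_lit 0x4f9001), (nat_lit 0x450001), (nat_lit 0x44f001), (nat_lit 0x4fc001)], [(nat_lit 0x452001), (nat_lit 0x500001), (nat_lit 0x451001), (nat_lit 0x453001)], [(nat_lit 0x504001), (nat_lit 0x454001), (nat_lit 0x455001), (nat_lit 0x508001)], [(nat_lit 0x457001), (nat_lit 0x50a001), (nat_lit 0x458001), (nat_lit 0x456001)], [(nat_lit 0x459001), (nat_lit 0x45a001),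 (nat_lit 0x506001), (nat_lit 0x45b001)], [(nat_lit 0x45d001), (nat_lit 0x45c001), (nat_lit 0x45e001), (nat_lit 0x45f001)], [(nat_lit 0x461001), (nat_lit 0x462001), (nat_lit 0x50c001), (nat_lit 0x460001)], [(nat_lit 0x50d001), (nat_lit 0x464001), (nat_lit 0x463001), (nat_lit 0x510001)], [(nat_lit 0x465001), (nat_lit 0x466001), (nat_lit 0x467001), (nat_lit 0x514001)], [(nat_lit 0x515001), (nat_lit 0x469001), (nat_lit 0x46a001), (nat_lit 0x468001)], [(nat_lit 0x46c001), (nat_lit 0x516001), (nat_lit 0x46d001), (nat_lit 0x46b001)], [(nat_lit 0x46f001), (nat_lit 0x518001), (nat_lit 0x46e001), (nat_lit 0x470001)], [(nat_lit 0x472001), (nat_lit 0x471001), (nat_lit 0x51a001), (nat_lit 0x473001)], [(nat_lit 0x475001), (nat_lit 0x477001), (nat_lit 0x474001), (nat_lit 0x476001)], [(nat_lit 0x479001), (nat_lit 0x51c001), (nat_lit 0x478001), (nat_lit 0x520001)], [(nat_lit 0x521001), (nat_lit 0x47b001), (nat_lit 0x524001),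 (nat_lit 0x47a001)], [(nat_lit 0x528001), (nat_lit 0x47c001), (nat_lit 0x51e001), (nat_lit 0x51b001)], [(nat_lit 0x47d001), (nat_lit 0x529001), (nat_lit 0x47e001), (nat_lit 0x47f001)], [(nat_lit 0x481001), (nat_lit 0x482001), (nat_lit 0x483001), (nat_lit 0x480001)], [(nat_lit 0x484001), (nat_lit 0x485001), (nat_lit 0x486001), (nat_lit 0x487001)], [(nat_lit 0x489001), (nat_lit 0x48a001), (nat_lit 0x52c001), (nat_lit 0x488001)], [(nat_lit 0x48c001), (nat_lit 0x48e001), (nat_lit 0x48b001), (nat_lit 0x48d001)], [(nat_lit 0x530001), (nat_lit 0x48f001), (nat_lit 0x490001), (nat_lit 0x534001)], [(nat_lit 0x492001), (nat_lit 0x536001), (nat_lit 0x493001), (nat_lit 0x491001)], [(nat_lit 0x495001), (nat_lit 0x496001), (nat_lit 0x497001), (nat_lit 0x494001)], [(nat_lit 0x49a001), (nat_lit 0x498001), (nat_lit 0x499001), (nat_lit 0x502001)], [(nat_lit 0x49c001), (nat_lit 0x49b001), (nat_lit 0x49d001), (nat_lit 0x49e001)],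 [(nat_lit 0x4a0001), (nat_lit 0x4a1001), (nat_lit 0x513001), (nat_lit 0x49f001)], [(nat_lit 0x511001), (nat_lit 0x4a3001), (nat_lit 0x4a2001), (nat_lit 0x50f001)], [(nat_lit 0x4a5001), (nat_lit 0x4a6001), (nat_lit 0x4a7001), (nat_lit 0x4a4001)], [(nat_lit 0x535001), (nat_lit 0x4a8001), (nat_lit 0x4a9001), (nat_lit 0x533001)], [(nat_lit 0x4ab001), (nat_lit 0x531001), (nat_lit 0x4ac001), (nat_lit 0x4aa001)], [(nat_lit 0x4ae001), (nat_lit 0x52e001), (nat_lit 0x4ad001), (nat_lit 0x4af001)], [(nat_lit 0x4b0001), (nat_lit 0x4b1001), (nat_lit 0x537001), (nat_lit 0x4b2001)], [(nat_lit 0x4b4001), (nat_lit 0x4b5001), (nat_lit 0x4ff001), (nat_lit 0x4b3001)], [(nat_lit 0x4fd001), (nat_lit 0x4b7001), (nat_lit 0x4b6001), (nat_lit 0x4fa001)], [(nat_lit 0x4b9001), (nat_lit 0x526001), (nat_lit 0x4b8001), (nat_lit 0x538001)], [(nat_lit 0x4ba001), (nat_lit 0x522001), (nat_lit 0x4bb001), (nat_lit 0x51f001)], [(nat_lit 0x51d001),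 (nat_lit 0x4bd001), (nat_lit 0x52a001), (nat_lit 0x4bc001)], [(nat_lit 0x4bf001), (nat_lit 0x4c0001), (nat_lit 0x4be001), (nat_lit 0x53c001)], [(nat_lit 0x53d001), (nat_lit 0x512001), (nat_lit 0x53b001), (nat_lit 0x4c1001)], [(nat_lit 0x4c2001), (nat_lit 0x4c3001), (nat_lit 0x4c4001), (nat_lit 0x4c5001)], [(nat_lit 0x4c7001), (nat_lit 0x53e001), (nat_lit 0x4c6001), (nat_lit 0x4c8001)], [(nat_lit 0x4ca001), (nat_lit 0x50e001), (nat_lit 0x4cb001), (nat_lit 0x4c9001)], [(nat_lit 0x539001), (nat_lit 0x4cc001), (nat_lit 0x53f001), (nat_lit 0x4cd001)], [(nat_lit 0x4ce001), (nat_lit 0x53a001), (nat_lit 0x4cf001), (nat_lit 0x527001)], [(nat_lit 0x525001), (nat_lit 0x4d1001), (nat_lit 0x523001), (nat_lit 0x4d0001)], [(nat_lit 0x4d3001), (nat_lit 0x4fe001), (nat_lit 0x4d2001), (nat_lit 0x4d4001)], [(nat_lit 0x4d6001), (nat_lit 0x4d7001), (nat_lit 0x4d8001), (nat_lit 0x4d5001)], [(nat_lit 0x4da001), (nat_lit 0x4db001),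 (nat_lit 0x532001), (nat_lit 0x4d9001)], [(nat_lit 0x52d001), (nat_lit 0x4dc001), (nat_lit 0x4dd001), (nat_lit 0x4de001)], [(nat_lit 0x4e0001), (nat_lit 0x4df001), (nat_lit 0x4e1001), (nat_lit 0x4e2001)], [(nat_lit 0x4e4001), (nat_lit 0x4e5001), (nat_lit 0x50b001), (nat_lit 0x4e3001)], [(nat_lit 0x509001), (nat_lit 0x4e7001), (nat_lit 0x4e6001), (nat_lit 0x507001)], [(nat_lit 0x4e8001), (nat_lit 0x4e9001), (nat_lit 0x4ea001), (nat_lit 0x52f001)], [(nat_lit 0x519001), (nat_lit 0x4ec001), (nat_lit 0x4eb001), (nat_lit 0x52b001)], [(nat_lit 0x4ed001), (nat_lit 0x4ee001), (nat_lit 0x517001), (nat_lit 0x4ef001)], [(nat_lit 0x4f1001), (nat_lit 0x4f2001), (nat_lit 0x4f3001), (nat_lit 0x4f0001)], [(nat_lit 0x503001), (nat_lit 0x505001), (nat_lit 0x4f5001), (nat_lit 0x4f4001)], [(nat_lit 0x4f7001), (nat_lit 0x4fb001), (nat_lit 0x501001), (nat_lit 0x4f6001)], [(nat_lit 0x4f9001), (nat_lit 0x4fb001), (nat_lit 0x4f8001),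 (nat_lit 0x4fa001)], [(nat_lit 0x4fd001), (nat_lit 0x4fe001), (nat_lit 0x4ff001), (nat_lit 0x4fc001)], [(nat_lit 0x503001), (nat_lit 0x500001), (nat_lit 0x501001), (nat_lit 0x502001)], [(nat_lit 0x504001), (nat_lit 0x505001), (nat_lit 0x506001), (nat_lit 0x507001)], [(nat_lit 0x509001), (nat_lit 0x50a001), (nat_lit 0x50b001), (nat_lit 0x508001)], [(nat_lit 0x50d001), (nat_lit 0x50e001), (nat_lit 0x50c001), (nat_lit 0x50f001)], [(nat_lit 0x511001), (nat_lit 0x512001), (nat_lit 0x513001), (nat_lit 0x510001)], [(nat_lit 0x515001), (nat_lit 0x516001), (nat_lit 0x517001), (nat_lit 0x514001)], [(nat_lit 0x519001), (nat_lit 0x518001), (nat_lit 0x51a001), (nat_lit 0x51b001)], [(nat_lit 0x51d001), (nat_lit 0x51c001), (nat_lit 0x51e001), (nat_lit 0x51f001)], [(nat_lit 0x521001), (nat_lit 0x522001), (nat_lit 0x523001), (nat_lit 0x520001)], [(nat_lit 0x525001), (nat_lit 0x526001), (nat_lit 0x524001), (nat_lit 0x527001)],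 [(nat_lit 0x528001), (nat_lit 0x529001), (nat_lit 0x52a001), (nat_lit 0x52b001)], [(nat_lit 0x52d001), (nat_lit 0x52e001), (nat_lit 0x52c001), (nat_lit 0x52f001)], [(nat_lit 0x530001), (nat_lit 0x531001), (nat_lit 0x532001), (nat_lit 0x533001)], [(nat_lit 0x535001), (nat_lit 0x536001), (nat_lit 0x537001), (nat_lit 0x534001)], [(nat_lit 0x539001), (nat_lit 0x53a001), (nat_lit 0x53b001), (nat_lit 0x538001)], [(nat_lit 0x53d001), (nat_lit 0x53e001), (nat_lit 0x53f001), (nat_lit 0x53c001)]]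

theorem rows0_ok : okRows data table 1344 0 rows0 = true := by decide +kernel

theorem rows0_len : rows0.length = 672 := by decide +kernel

end CfsgLib.CosetEnum.ONK
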